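import Groth.Prelude.Def_ActBC

/-!
Formal properties of restriction and base change of torsors along group isomorphisms.
-/

set_option autoImplicit false
set_option backward.isDefEq.respectTransparency false
universe u

open CategoryTheory CategoryTheory.Limits MonoidalCategory CartesianMonoidalCategory MonObj GrpObj
  AlgebraicGeometry

namespace Groth.Agent.H18ActBC

variable {S : Scheme.{u}} {G H K : Over S} [GrpObj G] [GrpObj H] [GrpObj K] {X Y : Over S}

/-- Restriction of an equivariant isomorphism along a homomorphism. -/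
noncomputable def restrictIso (φ : H ⟶ G) [IsMonHom φ] {a : AlgGrp.Action G X} {b : AlgGrp.Action G Y}
    (e : NonAbH1.EquivIso a b) : NonAbH1.EquivIso (a.restrict φ) (b.restrict φ) where
  iso := e.iso
  comm := by
    rw [AlgGrp.Action.restrict_act, AlgGrp.Action.restrict_act, Category.assoc, e.comm,
      ← whisker_exchange_assoc]

lemma restrict_restrict (φ : K ⟶ H) [IsMonHom φ] (ψ : H ⟶ G) [IsMonHom ψ] (χ : K ⟶ G) [IsMonHom χ]
    (h : φ ≫ ψ = χ) (a : AlgGrp.Action G X) : (a.restrict ψ).restrict φ = a.restrict χ := by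
  subst h
  apply AlgGrp.Action.ext'
  simp only [AlgGrp.Action.restrict_act, comp_whiskerRight, Category.assoc]

/-- Being a torsor is preserved by restriction along an isomorphism of group schemes. -/
lemma isTorsorFor_restrict (φ : H ⟶ G) [IsMonHom φ] [IsIso φ] {J : Precoverage Scheme.{u}}
    {a : AlgGrp.Action G X} (h : NonAbH1.IsTorsorFor J a) : NonAbH1.IsTorsorFor J (a.restrict φ) := by
  refine ⟨?_, h.2⟩
  haveI : IsIso (lift a.act (snd G X)) := h.1
  have e : lift (a.restrict φ).act (snd H X) = (φ ▷ X) ≫ lift a.act (snd G X) := by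
    rw [comp_lift, whiskerRight_snd]; rfl
  show IsIso _
  rw [e]
  infer_instance

variable {S₁ S₂ : Scheme.{u}}

/-- Transport of the group of an iterated base change. -/
noncomputable def changeGroup (f : S₁ ⟶ S) (g : S ⟶ S₂) {d : S₁ ⟶ S₂} (h : f ≫ g = d) (G₀ : Over S₂)
    [GrpObj G₀] {J : Precoverage Scheme.{u}}
    (P : NonAbH1.TorsorSch (Red.bc f (Red.bc g G₀)) J) : NonAbH1.TorsorSch (Red.bc d G₀) J :=
  ⟨P.X, P.act.restrict (ActBC.bcCompIso f g G₀ h).inv, isTorsorFor_restrict _ P.isTorsor⟩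

/-- The cocycle condition of `bcCompIso`. -/
lemma bcCompIso_cocycle {A B C D : Scheme.{u}} (j : A ⟶ B) (f : B ⟶ C) (g : C ⟶ D) {d : B ⟶ D}
    (h : f ≫ g = d) {e : A ⟶ C} (he : j ≫ f = e) {t : A ⟶ D} (ht : j ≫ d = t) (ht' : e ≫ g = t)
    (G₀ : Over D) :
    (Over.pullback j).map (ActBC.bcCompIso f g G₀ h).hom ≫ (ActBC.bcCompIso j d G₀ ht).hom =
      (ActBC.bcCompIso j f (Red.bc g G₀) he).hom ≫ (ActBC.bcCompIso e g G₀ ht').hom := by
  ext
  apply pullback.hom_ext
  · simp only [Over.comp_left, Category.assoc, ActBC.bcCompIso_hom_left_fst,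
      ActBC.pullback_map_left_fst_assoc, ActBC.bcCompIso_hom_left_fst_assoc]
  · exact (Over.w _).trans (Over.w _).symm

end Groth.Agent.H18ActBC
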